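import Groth.Agent.EtCdPhiLib.Point
import Groth.Agent.RDerLib.Delta
import Groth.Agent.S0538
import Groth.Agent.PTorsCdLib.Main
import Groth.Agent.CdCharPLib.Main

/-!
# Cohomological dimension from a dimension function
-/

set_option autoImplicit false
set_option linter.all false
set_option backward.isDefEq.respectTransparency false
set_option backward.isDefEq.respectTransparency.types false
set_option synthInstance.maxHeartbeats 400000
set_option maxHeartbeats 1000000

universe u

open CategoryTheory CategoryTheory.Limits CategoryTheory.Abelian AlgebraicGeometry Opposite TensorProduct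
open Groth.Agent Groth.Agent.EtShLib EtPBCProperLib SkySumLib

attribute [local instance] EtSliceLib.pullExact

noncomputable section

namespace EtCdPhiLib

variable {X : Scheme.{u}} [IsNoetherian X]

/-- Bounds on the residue fields and on the fraction fields of the strictly local rings. -/
structure Hyp (X : Scheme.{u}) (l : ℕ) (φ : X → ℕ) : Prop where
  cd : ∀ x : X, Dix.CohDimLEAt (Spec (X.residueField x)) l (φ x)
  local_bound : ∀ (x y : X) (hxy : x ⤳ y), x ≠ y →
      ∀ (R : Type u) [CommRing R] [IsLocalRing R] [Algebra (X.presheaf.stalk y) R]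
      [IsLocalHom (algebraMap (X.presheaf.stalk y) R)] [Hensel.IsStrictHenselization (X.presheaf.stalk y) R],
      ∀ P ∈ ((RingHom.ker (Cyc.specMap y x hxy)).map (algebraMap (X.presheaf.stalk y) R)).minimalPrimes,
        ∃ d : ℕ, d + 1 + φ y ≤ φ x ∧ Dix.CohDimLEAt (Spec (CommRingCat.of (FractionRing (R ⧸ P)))) l d

variable {l : ℕ} {φ : X → ℕ}

theorem lt_of_specializes (H : Hyp X l φ) {x y : X} (h : x ⤳ y) (hne : x ≠ y) : φ y < φ x := by
  let R := HenselLib.SH (X.presheaf.stalk y)
  haveI hS : Hensel.IsStrictHenselization (X.presheaf.stalk y) R := inferInstance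
  have hle : (RingHom.ker (Cyc.specMap y x h)).map (algebraMap (X.presheaf.stalk y) R) ≤ IsLocalRing.maximalIdeal R :=
    (Ideal.map_mono (IsLocalRing.le_maximalIdeal (RingHom.ker_ne_top _))).trans
      (IsLocalRing.map_maximalIdeal_le _)
  obtain ⟨P, hP, -⟩ := Ideal.exists_minimalPrimes_le hle
  obtain ⟨d, hd, -⟩ := H.local_bound x y h hne R P hP
  omega

theorem le_of_specializes (H : Hyp X l φ) {x y : X} (h : x ⤳ y) : φ y ≤ φ x := by
  rcases eq_or_ne x y with rfl | hne
  · exact le_rfl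
  · exact (lt_of_specializes H h hne).le

/-- A strictly henselian ring modulo a prime containing the maximal ideal. -/
theorem cohDimLEAt_self (y : X) (R : Type u) [CommRing R] [IsLocalRing R] [Algebra (X.presheaf.stalk y) R]
    [IsLocalHom (algebraMap (X.presheaf.stalk y) R)] [Hensel.IsStrictHenselization (X.presheaf.stalk y) R]
    (h : y ⤳ y) (P : Ideal R)
    (hP : P ∈ ((RingHom.ker (Cyc.specMap y y h)).map (algebraMap (X.presheaf.stalk y) R)).minimalPrimes) :
    Dix.CohDimLEAt (Spec (CommRingCat.of (FractionRing (R ⧸ P)))) l 0 := by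
  haveI := hP.1.1
  have hker : RingHom.ker (Cyc.specMap y y h) = IsLocalRing.maximalIdeal (X.presheaf.stalk y) := by
    ext a
    show X.residue y (X.presheaf.stalkSpecializes h a) = 0 ↔ _
    rw [TopCat.Presheaf.stalkSpecializes_refl]
    exact IsLocalRing.residue_eq_zero_iff a
  have hPm : P = IsLocalRing.maximalIdeal R := by
    have := hP.1.2
    rw [hker, Groth.Agent.S0538.result] at this
    exact ((IsLocalRing.maximalIdeal.isMaximal R).eq_of_le hP.1.1.ne_top this).symm
  subst hPm
  haveI : HenselianLocalRing R := Hensel.IsStrictHenselization.henselian (R := X.presheaf.stalk y)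
  haveI : IsSepClosed (IsLocalRing.ResidueField R) :=
    (Hensel.IsStrictHenselization.isSepClosure (R := X.presheaf.stalk y) (S := R)).sep_closed
  let K := IsLocalRing.ResidueField R
  haveI := SkySumLib.isSepClosed_residueField_self K
  intro G _ q hq
  let e : (R ⧸ IsLocalRing.maximalIdeal R) ≃+* FractionRing (R ⧸ IsLocalRing.maximalIdeal R) :=
    RingEquiv.ofBijective (algebraMap (R ⧸ IsLocalRing.maximalIdeal R) (FractionRing (R ⧸ IsLocalRing.maximalIdeal R)))
      ⟨IsFractionRing.injective _ _, IsFractionRing.surjective_iff_isField.2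
        ((Ideal.Quotient.maximal_ideal_iff_isField_quotient _).1 inferInstance)⟩
  let ε : Spec (CommRingCat.of (FractionRing (R ⧸ IsLocalRing.maximalIdeal R))) ≅ Spec (CommRingCat.of K) :=
    Scheme.Spec.mapIso e.toCommRingCatIso.op
  haveI := Groth.Agent.S0073.result K ((EtCoh.push ε.hom).obj G) q hq
  exact (Groth.Agent.S14451.result ε.hom G (fun j hj => isZero_rightDerived_push_finite ε.hom _ j hj) q).2.subsingleton

/-- The support of the higher direct images from a point. -/
theorem supp_Rpush_point (H : Hyp X l φ) (x : X) (G : EtCoh.Ab (Spec (X.residueField x))) (hG : l • 𝟙 G = 0)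
    (p : ℕ) (hp : 0 < p) :
    EtPBC.supp ((EtCoh.Rpush (X.fromSpecResidueField x) p).obj G) ⊆ {y | φ y + p + 1 ≤ φ x} := by
  refine supp_subset_of_stalk_zero fun Ω _ _ ξ hξ => ?_
  let y := ξ.base default
  let R := HenselLib.SH (X.presheaf.stalk y)
  haveI hS : Hensel.IsStrictHenselization (X.presheaf.stalk y) R := inferInstance
  haveI : HenselianLocalRing R := hS.henselian
  haveI : IsSepClosed (IsLocalRing.ResidueField R) := hS.isSepClosure.sep_closed
  have h0 := subsingleton_stalk_Rpush_point x y R G hG p fun h P hP => by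
    by_cases hne : x = y
    · subst hne
      exact ⟨0, hp, cohDimLEAt_self y R h P hP⟩
    · obtain ⟨d, hd, hcd⟩ := H.local_bound x y h hne R P hP
      refine ⟨d, ?_, hcd⟩
      have hy : ¬ φ y + p + 1 ≤ φ x := hξ
      omega
  haveI := subsingleton_stk_of_base _ h0 ξ (by
    rw [Scheme.Hom.comp_apply]
    refine ((congrArg (Hens2.specOf X y R).base ?_).trans (EtStrictAcycLib.specOf_closedPoint X y R)).symm
    rw [Subsingleton.elim (default : Spec (CommRingCat.of (IsLocalRing.ResidueField R))) (IsLocalRing.closedPoint _)]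
    exact IsLocalRing.comap_closedPoint (IsLocalRing.residue R))
  exact AddCommGrpCat.isZero_of_subsingleton _

/-- Vanishing for sheaves supported where `φ < m`. -/
def Van (l : ℕ) (φ : X → ℕ) (m : ℕ) : Prop :=
  ∀ F : EtCoh.Ab X, l • 𝟙 F = 0 → (∀ y ∈ EtPBC.supp F, φ y < m) → ∀ q : ℕ, m ≤ q → Subsingleton (EtCoh.H X F q)

/-- Cohomology of direct images from a point. -/
theorem subsingleton_H_push (x : X) : ∀ (b : ℕ), (∀ k, k < b → Van l φ k) →
    ∀ C : EtCoh.Ab (Spec (X.residueField x)),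
      (∀ q, b < q → Subsingleton (EtCoh.H (Spec (X.residueField x)) C q)) →
      (∀ p, 0 < p → l • 𝟙 ((EtCoh.Rpush (X.fromSpecResidueField x) p).obj C) = 0 ∧
        EtPBC.supp ((EtCoh.Rpush (X.fromSpecResidueField x) p).obj C) ⊆ {y | φ y + p + 1 ≤ b}) →
      ∀ q, b < q → Subsingleton (EtCoh.H X ((EtCoh.push (X.fromSpecResidueField x)).obj C) q) := by
  intro b
  let i := X.fromSpecResidueField x
  haveI : (EtCoh.push i).Additive := { }
  haveI : PreservesLimitsOfSize.{0, 0} (EtCoh.push i) := (EtCoh.pullPushAdj i).rightAdjoint_preservesLimits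
  haveI : PreservesFiniteLimits (EtCoh.push i) := PreservesLimitsOfSize.preservesFiniteLimits _
  induction b with
  | zero =>
    intro _ C hC hR q hq
    haveI := hC q hq
    refine (Groth.Agent.S14451.result i C (fun p hp => ?_) q).1.subsingleton
    rw [IsZero.iff_id_eq_zero]
    haveI : IsIso (0 : (EtCoh.Rpush i p).obj C ⟶ (EtCoh.Rpush i p).obj C) :=
      isIso_of_stalks (A := AddCommGrpCat.{u + 1}) _ fun Ω _ _ ξ =>
        have hz := isZero_stalk_of_notMem_supp (F := (EtCoh.Rpush i p).obj C) ξ fun h =>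
          Nat.not_succ_le_zero _ ((hR p hp).2 h)
        ⟨0, hz.eq_of_src _ _, hz.eq_of_src _ _⟩
    rw [← cancel_mono (0 : (EtCoh.Rpush i p).obj C ⟶ (EtCoh.Rpush i p).obj C)]
    simp
  | succ b ih =>
    intro hV C hC hR q hq
    haveI : PreservesFiniteLimits (EtCoh.pull i) := inferInstance
    let ip := (EnoughInjectives.presentation C).some
    haveI : Injective ip.J := ip.injective
    let S : ShortComplex (EtCoh.Ab (Spec (X.residueField x))) :=
      ShortComplex.mk ip.f (cokernel.π ip.f) (cokernel.condition _)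
    have hS : S.ShortExact := { exact := ShortComplex.exact_of_g_is_cokernel _ (cokernelIsCokernel _) }
    haveI : Injective S.X₂ := ip.injective
    haveI := injective_push i S.X₂
    let L := RDerLib.derivedLES (EtCoh.push i)
    have hIz : ∀ n : ℕ, IsZero (((EtCoh.push i).rightDerived (n + 1)).obj S.X₂) := fun n =>
      Functor.isZero_rightDerived_obj_injective_succ _ n S.X₂
    have hR' : ∀ p, 0 < p → l • 𝟙 ((EtCoh.Rpush i p).obj S.X₃) = 0 ∧
        EtPBC.supp ((EtCoh.Rpush i p).obj S.X₃) ⊆ {y | φ y + p + 1 ≤ b} := fun p hp => by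
      obtain ⟨n, rfl⟩ : ∃ n, p = n + 1 := ⟨p - 1, by omega⟩
      haveI : Mono (L.δ S hS (n + 1) (n + 2) rfl) :=
        (L.exact₃ S hS (n + 1) (n + 2) rfl).mono_g ((hIz n).eq_of_src _ _)
      obtain ⟨h1, h2⟩ := hR (n + 2) (by omega)
      refine ⟨PTorsCdLib.nsmul_id_of_mono (L.δ S hS (n + 1) (n + 2) rfl) h1, fun y hy => ?_⟩
      have h3 : φ y + (n + 2) + 1 ≤ b + 1 := h2 (supp_subset_of_mono (L.δ S hS (n + 1) (n + 2) rfl) hy)
      show φ y + (n + 1) + 1 ≤ b
      omega
    have hC' : ∀ m, b < m → Subsingleton (EtCoh.H (Spec (X.residueField x)) S.X₃ m) := fun m hm => by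
      refine subsingleton_of_forall_eq 0 fun y => ?_
      obtain ⟨m', rfl⟩ : ∃ m', m = m' + 1 := ⟨m - 1, by omega⟩
      obtain ⟨z, hz⟩ := Ext.covariant_sequence_exact₃ _ hS (y : Ext.{u + 1} _ S.X₃ (m' + 1)) (n₁ := m' + 2) rfl
        ((hC (m' + 2) (by omega)).elim _ _)
      rw [← hz, Ext.eq_zero_of_injective z, Ext.zero_comp]
    let g := (EtCoh.push i).map S.g
    have hQ : ∀ m, b ≤ m → Subsingleton (EtCoh.H X (cokernel g) m) := fun m hm => by
      let e0 := (EtCoh.push i).rightDerivedZeroIsoSelf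
      let δ' : (EtCoh.push i).obj S.X₃ ⟶ (EtCoh.Rpush i 1).obj C := e0.inv.app S.X₃ ≫ L.δ S hS 0 1 rfl
      have w : g ≫ δ' = 0 := by
        show (EtCoh.push i).map S.g ≫ e0.inv.app S.X₃ ≫ L.δ S hS 0 1 rfl = 0
        rw [← Category.assoc, e0.inv.naturality, Category.assoc, L.comp_δ S hS 0 1 rfl, comp_zero]
      have hex : (ShortComplex.mk g δ' w).Exact := by
        have h3 := L.exact₃ S hS 0 1 rfl
        refine ShortComplex.exact_of_iso ?_ h3
        refine ShortComplex.isoMk (e0.app S.X₂) (e0.app S.X₃) (Iso.refl _) ?_ ?_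
        · exact (e0.hom.naturality S.g).symm
        · show e0.hom.app S.X₃ ≫ e0.inv.app S.X₃ ≫ L.δ S hS 0 1 rfl = L.δ S hS 0 1 rfl ≫ 𝟙 _
          rw [Iso.hom_inv_id_app_assoc, Category.comp_id]
      haveI : Epi (L.δ S hS 0 1 rfl) := (L.exact₁ S hS 0 1 rfl).epi_f ((hIz 0).eq_of_tgt _ _)
      haveI : Epi δ' := epi_comp _ _
      let eQ : cokernel g ≅ (EtCoh.Rpush i 1).obj C :=
        (cokernelIsCokernel g).coconePointUniqueUpToIso hex.gIsCokernel
      obtain ⟨h1, h2⟩ := hR 1 one_pos
      refine hV b (Nat.lt_succ_self b) _ (PTorsCdLib.nsmul_id_of_mono eQ.hom h1) (fun y hy => ?_) m hm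
      have h3 : φ y + 1 + 1 ≤ b + 1 := h2 (supp_subset_of_mono eQ.hom hy)
      omega
    haveI := hS.mono_f
    let S1 : ShortComplex (EtCoh.Ab X) := ShortComplex.mk ((EtCoh.push i).map S.f) (Abelian.factorThruImage g)
      ((cancel_mono (Abelian.image.ι g)).1 (by
        rw [Category.assoc, Abelian.image.fac, ← Functor.map_comp, S.zero, Functor.map_zero, zero_comp]))
    let S2 : ShortComplex (EtCoh.Ab X) := ShortComplex.mk (Abelian.image.ι g) (cokernel.π g) (kernel.condition _)
    have hS1 : S1.ShortExact :=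
      { exact := by
          have hker : IsLimit (KernelFork.ofι ((EtCoh.push i).map S.f)
              (show (EtCoh.push i).map S.f ≫ g = 0 by rw [← Functor.map_comp, S.zero, Functor.map_zero])) :=
            KernelFork.mapIsLimit _ hS.fIsKernel (EtCoh.push i)
          refine ShortComplex.exact_of_f_is_kernel _ ?_
          exact KernelFork.IsLimit.ofι' _ _ fun a ha =>
            ⟨hker.lift (KernelFork.ofι a (by rw [← Abelian.image.fac g, ← Category.assoc, ha, zero_comp])),
              hker.fac _ WalkingParallelPair.zero⟩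
        mono_f := inferInstanceAs (Mono ((EtCoh.push i).map S.f))
        epi_g := inferInstanceAs (Epi (Abelian.factorThruImage g)) }
    have hS2 : S2.ShortExact :=
      { exact := ShortComplex.exact_of_f_is_kernel _ (kernelIsKernel _)
        mono_f := inferInstanceAs (Mono (Abelian.image.ι g))
        epi_g := inferInstanceAs (Epi (cokernel.π g)) }
    obtain ⟨q', rfl⟩ : ∃ q', q = q' + 1 + 1 := ⟨q - 2, by omega⟩
    have hI : Subsingleton (EtCoh.H X S1.X₂ (q' + 1 + 1)) :=
      subsingleton_of_forall_eq 0 fun z => Ext.eq_zero_of_injective z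
    refine PTorsCdLib.subsingleton_left hS1 (q' + 1) ?_ hI
    exact PTorsCdLib.subsingleton_left hS2 q' (hQ q' (by omega))
      (ih (fun k hk => hV k (by omega)) S.X₃ hC' hR' (q' + 1) (by omega))

/-- Vanishing for sheaves killed by `l`. -/
theorem van (H : Hyp X l φ) (hl : 0 < l) (m : ℕ) : Van l φ m := by
  classical
  induction m using Nat.strong_induction_on with
  | _ m ihm =>
  intro F hF hs q hq
  rcases m with _ | m
  · refine EtBcBridgeLib.subsingleton_H_of_isZero ?_ q
    rw [IsZero.iff_id_eq_zero]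
    haveI : IsIso (0 : F ⟶ F) := isIso_of_stalks (A := AddCommGrpCat.{u + 1}) _ fun Ω _ _ ξ =>
      have hz := isZero_stalk_of_notMem_supp (F := F) ξ fun h => Nat.not_lt_zero _ (hs _ h)
      ⟨0, hz.eq_of_src _ _, hz.eq_of_src _ _⟩
    rw [← cancel_mono (0 : F ⟶ F)]
    simp
  obtain ⟨q', rfl⟩ : ∃ q', q = q' + 1 := ⟨q - 1, by omega⟩
  refine subsingleton_of_forall_eq 0 fun z => ?_
  haveI := isFiltered_consOver F
  haveI := CovDevLib.preservesColimits_H (S := X) (q' + 1) (ConsOver F)
  obtain ⟨hc⟩ := nonempty_isColimit_consCocone F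
    (torsionBy_of_isTorsion (CdOneLib.isTorsion_of_nsmul_id l hl hF))
  obtain ⟨r, w, hw⟩ := CovDevLib.exists_rep_of_colimit (𝟭 (EtCoh.Ab X))
    (Abelian.extFunctorObj.{u + 1} (EtCoh.const X ℤ) (q' + 1)) hc z
  have hw' : Ext.comp (w : Ext.{u + 1} _ _ (q' + 1)) (Ext.mk₀ ((consCocone F).ι.app r)) (add_zero (q' + 1)) = z := hw
  let E : Set X := {y | φ y < m + 1}
  have hE : StableUnderSpecialization E := fun a b hab (ha : φ a < m + 1) =>
    lt_of_le_of_lt (le_of_specializes H hab) ha
  obtain ⟨G', π, g', -, hfac, T, hT, hTE, hGT⟩ := exists_image_supported hE hs _ ((consCocone F).ι.app r)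
    (PresOver.isCons (F := F) r)
  let J := Abelian.image g'
  have hJT : EtPBC.supp J ⊆ T := by
    refine supp_subset_of_stalk_zero fun Ω _ _ ξ hξ => ?_
    haveI : Epi ((stk (A := AddCommGrpCat.{u + 1}) ξ).map (Abelian.factorThruImage g')) := inferInstance
    exact IsZero.of_epi ((stk (A := AddCommGrpCat.{u + 1}) ξ).map (Abelian.factorThruImage g'))
      (isZero_stalk_of_notMem_supp ξ fun h => hξ (hGT h))
  have hJl : l • 𝟙 J = 0 := PTorsCdLib.nsmul_id_of_mono (Abelian.image.ι g') hF
  suffices hJ : Subsingleton (EtCoh.H X J (q' + 1)) by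
    rw [← hw', ← hfac, ← Abelian.image.fac g', ← Category.assoc, ← Ext.mk₀_comp_mk₀,
      ← Ext.comp_assoc_of_second_deg_zero,
      hJ.elim (Ext.comp (w : Ext.{u + 1} _ _ (q' + 1)) (Ext.mk₀ (π ≫ Abelian.factorThruImage g')) (add_zero (q' + 1))) 0,
      Ext.zero_comp]
  let gen : irreducibleComponents ↥T → X := fun Z =>
    haveI := hT.isClosedEmbedding_subtypeVal.quasiSober
    ((Z.2.1).genericPoint (S := (Z : Set ↥T))).1
  have hgen : ∀ y ∈ T, ∃ Z, gen Z ⤳ y := fun y hy => by
    haveI := hT.isClosedEmbedding_subtypeVal.quasiSober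
    refine ⟨⟨irreducibleComponent (⟨y, hy⟩ : ↥T), irreducibleComponent_mem_irreducibleComponents _⟩, ?_⟩
    have h1 : (isIrreducible_irreducibleComponent (x := (⟨y, hy⟩ : ↥T))).genericPoint ⤳ (⟨y, hy⟩ : ↥T) :=
      (isIrreducible_irreducibleComponent (x := (⟨y, hy⟩ : ↥T))).isGenericPoint_genericPoint_closure.specializes
        (subset_closure mem_irreducibleComponent)
    exact h1.map continuous_subtype_val
  have hgenT : ∀ Z, gen Z ∈ T := fun Z =>
    haveI := hT.isClosedEmbedding_subtypeVal.quasiSober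
    ((Z.2.1).genericPoint (S := (Z : Set ↥T))).2
  haveI : Finite (irreducibleComponents ↥T) :=
    TopologicalSpace.NoetherianSpace.finite_irreducibleComponents.to_subtype
  let M : Set X := {x | x ∈ T ∧ ∀ y ∈ T, y ⤳ x → y = x}
  have hMfin : M.Finite := (Set.finite_range gen).subset fun x hx => by
    obtain ⟨Z, hZ⟩ := hgen x hx.1
    exact ⟨Z, hx.2 _ (hgenT Z) hZ⟩
  have hMcov : ∀ y ∈ T, ∃ x ∈ M, x ⤳ y := fun y hy => by
    obtain ⟨Z, hZ⟩ := hgen y hy
    let Sy : Set (irreducibleComponents ↥T) := {W | gen W ⤳ y}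
    obtain ⟨W, hW, hmax⟩ := (Set.toFinite Sy).exists_maximalFor (fun W => φ (gen W)) Sy ⟨Z, hZ⟩
    refine ⟨gen W, ⟨hgenT W, fun v hv hvW => ?_⟩, hW⟩
    by_contra hne
    obtain ⟨V, hV⟩ := hgen v hv
    have h1 := lt_of_specializes H hvW hne
    have h2 := le_of_specializes H hV
    have h3 := hmax (show V ∈ Sy from (hV.trans hvW).trans hW) (show φ (gen W) ≤ φ (gen V) by omega)
    have h3' : φ (gen V) ≤ φ (gen W) := h3
    omega
  haveI : Finite M := hMfin.to_subtype
  let P := ⨁ fun x : M => KP J x.1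
  let u : J ⟶ P := biproduct.lift fun x : M => uP J x.1
  have hPl : l • 𝟙 P = 0 := PTorsCdLib.nsmul_id_biproduct _ fun x => by
    haveI : (EtCoh.push (X.fromSpecResidueField x.1)).Additive := { }
    haveI := additive_pull (X.fromSpecResidueField x.1)
    exact CdPrimeLib.nsmul_id_map (EtCoh.push (X.fromSpecResidueField x.1))
      (CdPrimeLib.nsmul_id_map (EtCoh.pull (X.fromSpecResidueField x.1)) hJl)
  have hu : ∀ (Ω : Type u) [Field Ω] [IsSepClosed Ω] (ξ : Spec (CommRingCat.of Ω) ⟶ X),
      ξ.base default ∈ M → IsIso ((stk (A := AddCommGrpCat.{u + 1}) ξ).map u) := fun Ω _ _ ξ hξ => by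
    let x₀ : M := ⟨ξ.base default, hξ⟩
    let S := stk (A := AddCommGrpCat.{u + 1}) ξ
    haveI : Fintype M := Fintype.ofFinite _
    let π := biproduct.π (fun x : M => KP J x.1) x₀
    let ι := biproduct.ι (fun x : M => KP J x.1) x₀
    haveI : IsIso (S.map π) := by
      refine ⟨S.map ι, ?_, ?_⟩
      · have h1 : ∀ y : M, y ≠ x₀ →
            S.map (biproduct.π (fun x : M => KP J x.1) y ≫ biproduct.ι (fun x : M => KP J x.1) y) = 0 :=
          fun y hy => by
            have h0 : IsZero (S.obj (KP J y.1)) :=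
              isZero_stk_KP J ξ fun h => hy (Subtype.ext (hξ.2 _ y.2.1 h))
            rw [Functor.map_comp, h0.eq_of_tgt (S.map _) 0, zero_comp]
        have h2 := congrArg (fun t => S.map t) (IsBilimit.total (biproduct.isBilimit fun x : M => KP J x.1))
        simp only [Functor.map_sum, CategoryTheory.Functor.map_id] at h2
        rw [Finset.sum_eq_single x₀ (fun y _ hy => h1 y hy) (fun h => absurd (Finset.mem_univ _) h),
          Functor.map_comp] at h2
        exact h2
      · rw [← Functor.map_comp, biproduct.ι_π_self, CategoryTheory.Functor.map_id]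
    haveI : IsIso (S.map u ≫ S.map π) := by
      rw [← Functor.map_comp, biproduct.lift_π]
      exact (ConcreteCategory.isIso_iff_bijective _).2 (bijective_stk_uP J x₀.1 ξ rfl)
    exact IsIso.of_isIso_comp_right (S.map u) (S.map π)
  have hsmall : ∀ (A : EtCoh.Ab X), (∀ (Ω : Type u) [Field Ω] [IsSepClosed Ω] (ξ : Spec (CommRingCat.of Ω) ⟶ X),
      ξ.base default ∉ T \ M → IsZero ((stk (A := AddCommGrpCat.{u + 1}) ξ).obj A)) →
      ∀ y ∈ EtPBC.supp A, φ y < m := fun A hA y hy => by
    obtain ⟨hyT, hyM⟩ := supp_subset_of_stalk_zero hA hy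
    obtain ⟨x, hxM, hxy⟩ := hMcov y hyT
    have h1 : φ x < m + 1 := hTE hxM.1
    have h2 := lt_of_specializes H hxy fun e => hyM (e ▸ hxM)
    omega
  refine PTorsCdLib.subsingleton_of_map u q'
    (ihm m (Nat.lt_succ_self m) _ (PTorsCdLib.nsmul_id_kernel u hJl) (hsmall _ fun Ω _ _ ξ h => ?_) (q' + 1) (by omega))
    (ihm m (Nat.lt_succ_self m) _ (PTorsCdLib.nsmul_id_cokernel u hPl) (hsmall _ fun Ω _ _ ξ h => ?_) q' (by omega))
    (PTorsCdLib.subsingleton_H_biproduct _ _ fun x => ?_)
  · by_cases hM : ξ.base default ∈ M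
    · exact (PTorsCdLib.isZero_stk_kernel_cokernel u ξ (hu Ω ξ hM)).1
    · exact IsZero.of_mono ((stk (A := AddCommGrpCat.{u + 1}) ξ).map (kernel.ι u))
        (isZero_stalk_of_notMem_supp ξ fun hh => h ⟨hJT hh, hM⟩)
  · by_cases hM : ξ.base default ∈ M
    · exact (PTorsCdLib.isZero_stk_kernel_cokernel u ξ (hu Ω ξ hM)).2
    · have hnT : ξ.base default ∉ T := fun hh => h ⟨hh, hM⟩
      refine IsZero.of_epi ((stk (A := AddCommGrpCat.{u + 1}) ξ).map (cokernel.π u)) ?_
      haveI : Fintype M := Fintype.ofFinite _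
      rw [IsZero.iff_id_eq_zero]
      have h2 := congrArg (fun t => (stk (A := AddCommGrpCat.{u + 1}) ξ).map t)
        (IsBilimit.total (biproduct.isBilimit fun x : M => KP J x.1))
      simp only [Functor.map_sum, CategoryTheory.Functor.map_id] at h2
      refine h2.symm.trans (Finset.sum_eq_zero fun y _ => ?_)
      rw [Functor.map_comp, (isZero_stk_KP J ξ fun hs' => hnT (hs'.mem_closed hT y.2.1)).eq_of_tgt
        ((stk (A := AddCommGrpCat.{u + 1}) ξ).map (biproduct.π (fun x : M => KP J x.1) y)) 0, zero_comp]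
  · have hxm : φ x.1 ≤ m := Nat.lt_succ_iff.1 (hTE x.2.1)
    haveI := additive_pull (X.fromSpecResidueField x.1)
    haveI : (EtCoh.push (X.fromSpecResidueField x.1)).Additive := { }
    have hGl := CdPrimeLib.nsmul_id_map (EtCoh.pull (X.fromSpecResidueField x.1)) hJl
    exact subsingleton_H_push x.1 (φ x.1) (fun k hk => ihm k (by omega)) _
      (fun p hp => H.cd x.1 _ (EtKummerLib.isPrimaryTorsion_of_nsmul_id l 1 (by rw [pow_one]; exact hGl)) p hp)
      (fun p hp => ⟨CdPrimeLib.nsmul_id_map (EtCoh.Rpush (X.fromSpecResidueField x.1) p) hGl,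
        supp_Rpush_point H x.1 _ hGl p hp⟩) (q' + 1) (by omega)

theorem subsingleton_H_killed_pow (H : Hyp X l φ) (hl : 0 < l) (N : ℕ) :
    ∀ F : EtCoh.Ab X, (l ^ N) • 𝟙 F = 0 → ∀ q : ℕ, (∀ y ∈ EtPBC.supp F, φ y < q) →
      Subsingleton (EtCoh.H X F q) := by
  induction N with
  | zero =>
    intro F hF q _
    rw [pow_zero, one_smul] at hF
    exact EtBcBridgeLib.subsingleton_H_of_isZero ((IsZero.iff_id_eq_zero F).2 hF) q
  | succ N ih =>
    intro F hF q hq
    let g : F ⟶ F := l • 𝟙 F
    let S : ShortComplex (EtCoh.Ab X) := ShortComplex.mk (kernel.ι g) (Abelian.factorThruImage g)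
      ((cancel_mono (Abelian.image.ι g)).1 (by rw [Category.assoc, Abelian.image.fac, kernel.condition, zero_comp]))
    have hS : S.ShortExact :=
      { exact := ShortComplex.exact_of_f_is_kernel _ (KernelFork.IsLimit.ofι' _ _ fun a ha =>
          ⟨kernel.lift g a (by rw [← Abelian.image.fac g, ← Category.assoc, ha, zero_comp]), kernel.lift_ι _ _ _⟩)
        mono_f := inferInstanceAs (Mono (kernel.ι g))
        epi_g := inferInstanceAs (Epi (Abelian.factorThruImage g)) }
    have hI : (l ^ N) • 𝟙 S.X₃ = 0 := by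
      haveI : Epi S.g := hS.epi_g
      rw [← cancel_epi S.g, Preadditive.comp_nsmul, Category.comp_id, comp_zero]
      show (l ^ N) • Abelian.factorThruImage g = 0
      rw [← cancel_mono (Abelian.image.ι g), Preadditive.nsmul_comp, Abelian.image.fac, zero_comp,
        show g = l • 𝟙 F from rfl, ← mul_smul, ← pow_succ, hF]
    exact PTorsCdLib.subsingleton_mid hS q
      (van H hl q _ (EtKummerLib.nsmul_id_kernel F l)
        (fun y hy => hq y (supp_subset_of_mono (kernel.ι g) hy)) q le_rfl)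
      (ih _ hI q fun y hy => hq y (supp_subset_of_mono (Abelian.image.ι g) hy))

/-- Sheaves all of whose stalks are `l`-primary. -/
theorem subsingleton_H (H : Hyp X l φ) (hl : l.Prime) (F : EtCoh.Ab X) (hF : Dix.IsPrimaryTorsion l F) (q : ℕ)
    (hq : ∀ y ∈ EtPBC.supp F, φ y < q) : Subsingleton (EtCoh.H X F q) := by
  have hpos : ∀ m, (∃ j, m = l ^ j) → 0 < m := fun m ⟨j, hj⟩ => hj ▸ pow_pos hl.pos j
  have hF' : TorsionBy (fun m => ∃ j, m = l ^ j) F := fun Ω _ _ ξ y => by
    obtain ⟨k, hk⟩ := CdCharPLib.exists_pow_nsmul_stk hF ξ y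
    exact ⟨l ^ k, ⟨k, rfl⟩, hk⟩
  refine subsingleton_of_forall_eq 0 fun x => ?_
  obtain ⟨I, ι, hι, hI, z, rfl⟩ := PTorsCdLib.exists_cons_sub F (fun Ω _ _ ξ y => by
    obtain ⟨m, hm, h0⟩ := hF' Ω ξ y
    exact ⟨m, hpos m hm, h0⟩) q x
  haveI := hι
  obtain ⟨a, U, m, hm, ψ, hψ⟩ := exists_epi_cons hI (hF'.of_mono ι) hpos
  haveI := hψ
  choose j hj using fun i => (hm i).1
  have hN : (l ^ ∑ i, j i) • 𝟙 I = 0 := PTorsCdLib.nsmul_id_of_epi ψ (PTorsCdLib.nsmul_id_biproduct _ fun i => by
    obtain ⟨c, hc⟩ := pow_dvd_pow l (Finset.single_le_sum (f := j) (fun _ _ => Nat.zero_le _) (Finset.mem_univ i))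
    rw [hc, mul_comm, mul_smul, ← hj i, nsmul_id_extConst, smul_zero])
  rw [(subsingleton_H_killed_pow H hl.pos _ I hN q fun y hy => hq y (supp_subset_of_mono ι hy)).elim z 0,
    Ext.zero_comp]

end EtCdPhiLib
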