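import Groth.Agent.PTorsCdLib.Point
import Groth.Agent.EtTransferLib.PointTorsion
import Groth.Agent.EtShLib.ShriekSupp
import Groth.Agent.CdCharPLib.Main

/-!
# Uniquely divisible sheaves have no cohomology above the dimension
-/

set_option autoImplicit false
set_option linter.all false
set_option backward.isDefEq.respectTransparency false
set_option backward.isDefEq.respectTransparency.types false
set_option synthInstance.maxHeartbeats 400000
set_option maxHeartbeats 1000000

universe u

open CategoryTheory CategoryTheory.Limits CategoryTheory.Abelian AlgebraicGeometry Opposite TopologicalSpace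
open Groth.Agent Groth.Agent.EtShLib SkySumLib PTorsCdLib

attribute [local instance] EtSliceLib.pullExact

noncomputable section

namespace EtCdDivLib

/-- Multiplication by positive integers is invertible. -/
def Div {X : Scheme.{u}} (G : EtCoh.Ab X) : Prop := ∀ m : ℕ, 0 < m → IsIso (m • 𝟙 G)

theorem div_of_sections {X : Scheme.{u}} (F : EtCoh.Ab X)
    (hF : ∀ (U : X.Etale) (m : ℕ), 0 < m → Function.Bijective (fun s : EtCoh.sect F U => m • s)) : Div F := by
  intro m hm
  haveI : ∀ U : (X.Etale)ᵒᵖ, IsIso ((m • 𝟙 F : F ⟶ F).hom.app U) := fun U => by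
    refine (ConcreteCategory.isIso_iff_bijective _).2 ?_
    convert hF U.unop m hm using 1
    funext s
    exact EtTransferLib.nsmul_id_app F m U.unop s
  haveI : IsIso (m • 𝟙 F : F ⟶ F).hom := NatIso.isIso_of_isIso_app _
  haveI : IsIso ((sheafToPresheaf _ _).map (m • 𝟙 F : F ⟶ F)) := this
  exact isIso_of_reflects_iso _ (sheafToPresheaf X.smallEtaleTopology AddCommGrpCat.{u + 1})

theorem Div.map {X Y : Scheme.{u}} (Φ : EtCoh.Ab X ⥤ EtCoh.Ab Y) [Φ.Additive] {G : EtCoh.Ab X} (h : Div G) :
    Div (Φ.obj G) := fun m hm => by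
  haveI := h m hm
  rw [← Φ.map_id, ← Functor.map_nsmul]
  infer_instance

theorem comm {X : Scheme.{u}} {A B : EtCoh.Ab X} (φ : A ⟶ B) (m : ℕ) : φ ≫ (m • 𝟙 B) = (m • 𝟙 A) ≫ φ := by
  rw [Preadditive.comp_nsmul, Preadditive.nsmul_comp, Category.comp_id, Category.id_comp]

theorem Div.kernel {X : Scheme.{u}} {A B : EtCoh.Ab X} (φ : A ⟶ B) (hA : Div A) (hB : Div B) :
    Div (Limits.kernel φ) := fun m hm => by
  haveI := hA m hm
  haveI := hB m hm
  refine ⟨kernel.lift φ (kernel.ι φ ≫ inv (m • 𝟙 A)) ?_, ?_, ?_⟩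
  · rw [← cancel_mono (m • 𝟙 B), zero_comp, Category.assoc, Category.assoc, comm, IsIso.inv_hom_id_assoc,
      kernel.condition]
  · rw [← cancel_mono (kernel.ι φ), Category.assoc, kernel.lift_ι, ← Category.assoc, ← comm, Category.assoc,
      IsIso.hom_inv_id, Category.comp_id, Category.id_comp]
  · rw [← cancel_mono (kernel.ι φ), Category.assoc, Category.id_comp,
      show (m • 𝟙 (Limits.kernel φ)) ≫ kernel.ι φ = kernel.ι φ ≫ (m • 𝟙 A) from (comm (kernel.ι φ) m).symm,
      kernel.lift_ι_assoc, Category.assoc, IsIso.inv_hom_id, Category.comp_id]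

theorem Div.cokernel {X : Scheme.{u}} {A B : EtCoh.Ab X} (φ : A ⟶ B) (hA : Div A) (hB : Div B) :
    Div (Limits.cokernel φ) := fun m hm => by
  haveI := hA m hm
  haveI := hB m hm
  refine ⟨cokernel.desc φ (inv (m • 𝟙 B) ≫ cokernel.π φ) ?_, ?_, ?_⟩
  · rw [← cancel_epi (m • 𝟙 A), comp_zero, ← Category.assoc, ← comm, Category.assoc, IsIso.hom_inv_id_assoc,
      cokernel.condition]
  · rw [← cancel_epi (cokernel.π φ), ← Category.assoc, comm, Category.assoc, cokernel.π_desc, IsIso.hom_inv_id_assoc,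
      Category.comp_id]
  · rw [← cancel_epi (cokernel.π φ), cokernel.π_desc_assoc, Category.assoc, comm, IsIso.inv_hom_id_assoc,
      Category.comp_id]

theorem Div.biproduct {X : Scheme.{u}} {ι : Type*} [Finite ι] (f : ι → EtCoh.Ab X) (h : ∀ i, Div (f i)) :
    Div (⨁ f) := fun m hm => by
  haveI := fun i => h i m hm
  rw [show (m • 𝟙 (⨁ f)) = Limits.biproduct.map fun i => m • 𝟙 (f i) from Limits.biproduct.hom_ext _ _ fun i => by
    rw [Limits.biproduct.map_π, comm]]
  exact (Limits.biproduct.mapIso fun i => asIso (m • 𝟙 (f i))).isIso_hom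

theorem eq_zero_of_torsion {X : Scheme.{u}} {M G : EtCoh.Ab X} (hG : Div G) {q : ℕ} (z : Ext.{u + 1} M G q)
    (hz : IsOfFinAddOrder z) : z = 0 := by
  obtain ⟨n, hn, h⟩ := isOfFinAddOrder_iff_nsmul_eq_zero.1 hz
  haveI := hG n hn
  rw [← EtTransferLib.comp_mk₀_nsmul] at h
  have h2 := congrArg (fun t => Ext.comp t (Ext.mk₀ (inv (n • 𝟙 G))) (add_zero q)) h
  simpa only [Ext.comp_assoc_of_second_deg_zero, Ext.mk₀_comp_mk₀, IsIso.hom_inv_id, Ext.comp_mk₀_id,
    Ext.zero_comp] using h2

variable {X : Scheme.{u}} [IsNoetherian X]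

/-- Direct images of uniquely divisible sheaves from points are acyclic. -/
theorem subsingleton_H_push (x : X) (G : EtCoh.Ab (Spec (X.residueField x))) (hG : Div G) (q : ℕ) (hq : 0 < q) :
    Subsingleton (EtCoh.H X ((EtCoh.push (X.fromSpecResidueField x)).obj G) q) := by
  let i := X.fromSpecResidueField x
  let K := X.residueField x
  haveI : QuasiCompact i := quasiCompact_of_compactSpace _
  haveI : QuasiSeparated i := inferInstance
  haveI : (EtCoh.push i).Additive := { }
  obtain ⟨q', rfl⟩ : ∃ q', q = q' + 1 := ⟨q - 1, by omega⟩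
  refine subsingleton_of_forall_eq 0 fun z => eq_zero_of_torsion (hG.map (EtCoh.push i)) _ ?_
  exact EtTransferLib.isOfFinAddOrder_H_push (k := K) i q' G z

/-- The open complement. -/
def co (T : Closeds X) : X.Opens := T.compl

/-- The sections supported in a closed subset. -/
abbrev gammaT (G : EtCoh.Ab X) (T : Closeds X) : EtCoh.Ab X :=
  kernel ((EtCoh.pullPushAdj (co T).ι).unit.app G)

theorem isZero_stalk_gammaT (G : EtCoh.Ab X) (T : Closeds X) {Ω : Type u} [Field Ω] [IsSepClosed Ω]
    (ξ : Spec (CommRingCat.of Ω) ⟶ X) (h : ξ.base default ∉ (T : Set X)) :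
    IsZero ((stk (A := AddCommGrpCat.{u + 1}) ξ).obj (gammaT G T)) := by
  let U : X.Opens := co T
  let j := U.ι
  haveI : (EtCoh.pull j).Additive := (EtCoh.pullPushAdj j).left_adjoint_additive
  let u := (EtCoh.pullPushAdj j).unit.app G
  have h0 : (EtCoh.pull j).map (kernel.ι u) = 0 := by
    have h1 : (EtCoh.pull j).map (kernel.ι u) ≫ (EtCoh.pull j).map u = 0 := by
      rw [← Functor.map_comp, kernel.condition, Functor.map_zero]
    have h2 := congrArg (· ≫ (EtCoh.pullPushAdj j).counit.app ((EtCoh.pull j).obj G)) h1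
    simp only [Category.assoc, zero_comp] at h2
    rw [(EtCoh.pullPushAdj j).left_triangle_components G] at h2
    exact (Category.comp_id _).symm.trans h2
  haveI : Mono ((EtCoh.pull j).map (kernel.ι u)) := inferInstance
  have hz : IsZero ((EtCoh.pull j).obj (gammaT G T)) := IsZero.of_mono_eq_zero ((EtCoh.pull j).map (kernel.ι u)) h0
  obtain ⟨ζ, rfl⟩ := exists_factor j ξ (by rw [Scheme.Opens.range_ι]; exact h)
  exact ((stk (A := AddCommGrpCat.{u + 1}) ζ).map_isZero hz).of_iso
    ((stalkPull j ζ AddCommGrpCat.{u + 1}).app (gammaT G T))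

theorem div_gammaT {G : EtCoh.Ab X} (hG : Div G) (T : Closeds X) : Div (gammaT G T) := by
  haveI : (EtCoh.pull (co T).ι).Additive := (EtCoh.pullPushAdj (co T).ι).left_adjoint_additive
  haveI : (EtCoh.push (co T).ι).Additive := { }
  exact hG.kernel _ ((hG.map (EtCoh.pull (co T).ι)).map (EtCoh.push (co T).ι))

/-- Closed subsets without maximal points. -/
def Small (X : Scheme.{u}) : Type (u + 1) :=
  ULift.{u + 1} {T : Closeds X // ∀ y ∈ (T : Set X), ¬ DivSeqLib.IsMaxPt y}

instance (X : Scheme.{u}) : Preorder (Small X) := Preorder.lift fun T => T.down.1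

instance (X : Scheme.{u}) : Nonempty (Small X) := ⟨⟨⟨⊥, fun y hy => absurd hy (by simp)⟩⟩⟩

instance (X : Scheme.{u}) : IsDirectedOrder (Small X) :=
  ⟨fun a b => ⟨⟨⟨a.down.1 ⊔ b.down.1, fun y hy => by
    rcases hy with hy | hy
    · exact a.down.2 y hy
    · exact b.down.2 y hy⟩⟩, le_sup_left (α := Closeds X), le_sup_right (α := Closeds X)⟩⟩

theorem exists_incl (G : EtCoh.Ab X) {T T' : Closeds X} (h : T ≤ T') :
    ∃ f : gammaT G T ⟶ gammaT G T', f ≫ kernel.ι _ = kernel.ι _ := by
  refine ⟨kernel.lift _ (kernel.ι _) ?_, kernel.lift_ι _ _ _⟩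
  let j := (co T').ι
  apply ((EtCoh.pullPushAdj j).homEquiv _ _).symm.injective
  have hz : IsZero ((EtCoh.pull j).obj (gammaT G T)) := by
    refine CdCharPLib.isZero_of_stk fun Ω _ _ ζ => ?_
    refine (isZero_stalk_gammaT G T (ζ ≫ j) fun hm => ?_).of_iso ((stalkPull j ζ AddCommGrpCat.{u + 1}).app _).symm
    exact (ζ.base default).2 (h hm)
  exact hz.eq_of_src _ _

/-- The diagram of sections supported in small closed subsets. -/
def diag (G : EtCoh.Ab X) : Small X ⥤ EtCoh.Ab X where
  obj T := gammaT G T.down.1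
  map f := (exists_incl G (leOfHom f : _)).choose
  map_id T := by
    rw [← cancel_mono (kernel.ι _), Category.id_comp]
    exact (exists_incl G (leOfHom (𝟙 T) : _)).choose_spec
  map_comp {T₁ T₂ T₃} f g := by
    rw [← cancel_mono (kernel.ι _), Category.assoc]
    exact ((exists_incl G (leOfHom (f ≫ g) : _)).choose_spec).trans
      (((congrArg (_ ≫ ·) (exists_incl G (leOfHom g : _)).choose_spec).trans
        (exists_incl G (leOfHom f : _)).choose_spec).symm)

/-- The cocone of inclusions. -/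
def cocone (G : EtCoh.Ab X) : Cocone (diag G) where
  pt := G
  ι :=
    { app := fun T => kernel.ι _
      naturality := fun a b f => (exists_incl G (leOfHom f : _)).choose_spec.trans (Category.comp_id _).symm }

theorem exists_lift_stalk (G : EtCoh.Ab X) (h0 : ZeroAtMax G) {Ω : Type u} [Field Ω] [IsSepClosed Ω]
    (ξ : Spec (CommRingCat.of Ω) ⟶ X) (P : ToType ((stk (A := AddCommGrpCat.{u + 1}) ξ).obj (cocone G).pt)) :
    ∃ (T : Small X) (Q : ToType ((stk (A := AddCommGrpCat.{u + 1}) ξ).obj ((diag G).obj T))),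
      (stk (A := AddCommGrpCat.{u + 1}) ξ).map ((cocone G).ι.app T) Q = P := by
  obtain ⟨W, w, t, rfl⟩ := exists_germ (A := AddCommGrpCat.{u + 1}) ξ P
  obtain ⟨U, a, y, hy, hU⟩ := SkySumLib.exists_affine W w.pt
  haveI := etale_left a
  obtain ⟨l, hl, -⟩ := Scheme.exists_fac_of_etale_of_isSepClosed a.left w.hom y hy
  let u : Fib ξ U := Fib.mk l (by
    rw [← w.w, ← hl, Category.assoc]
    exact congrArg (l ≫ ·) (MorphismProperty.Over.w a).symm)
  have hw : u.map a = w := Fib.ext ((Fib.map_hom a u).trans hl)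
  rw [← hw]
  haveI := hU
  let p : U.left ⟶ X := U.hom
  haveI : AlgebraicGeometry.Etale p := U.prop
  haveI : IsAffine U.left := hU
  haveI : CompactSpace U.left := inferInstance
  haveI : QuasiCompact p := quasiCompact_of_compactSpace p
  haveI : IsLocallyNoetherian U.left := LocallyOfFiniteType.isLocallyNoetherian p
  haveI : IsNoetherian U.left := { }
  let s := G.obj.map a.op t
  let S : Set U.left := EtShriek.sectSupp G U s
  have hSc : IsClosed S := isClosed_sectSupp G U s
  have hcons : Topology.IsConstructible (p.base '' S) :=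
    p.isConstructible_image (by
      rw [← compl_compl S]
      exact (IsRetrocompact.isConstructible hSc.isOpen_compl (fun V _ _ => NoetherianSpace.isCompact _)).compl)
  have hmax : ∀ y ∈ p.base '' S, ¬ DivSeqLib.IsMaxPt y := by
    rintro _ ⟨z, hz, rfl⟩ hm
    obtain ⟨Ω', _, _, η, v, rfl⟩ := exists_geometric (U := U) z
    refine notMem_sectSupp_of_germ G s v ?_ hz
    have hb : η.base default = p.base v.pt :=
      (congrArg (fun r : Spec (CommRingCat.of Ω') ⟶ X => r.base default) v.w).symm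
    haveI : Subsingleton ((stk (A := AddCommGrpCat.{u + 1}) η).obj G) :=
      AddCommGrpCat.subsingleton_of_isZero (h0 Ω' η (hb ▸ hm))
    exact Subsingleton.elim _ _
  let T : Small X := ⟨⟨⟨closure (p.base '' S), isClosed_closure⟩, fun y hy hm => by
    obtain ⟨z, hz, hzy⟩ := Groth.Agent.ProConsLib.exists_specializes_of_mem_closure_sch
      (Groth.Agent.ProConsLib.isLocallyConstructible_iff_ind_and_pro.1 hcons.isLocallyConstructible).2 hy
    exact hmax z hz ((hm z hzy).symm ▸ hm)⟩⟩
  let j := (co T.down.1).ι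
  let un := (EtCoh.pullPushAdj j).unit.app G
  have hs : un.hom.app (op U) s = 0 := by
    refine eq_of_germ (A := AddCommGrpCat.{u + 1}) ((EtCoh.pull j).obj G) (U := (EtCoh.bc j).obj U) _ _
      fun Ω' _ _ ζ v => ?_
    rw [show germ (A := AddCommGrpCat.{u + 1}) ζ ((EtCoh.pull j).obj G) ((EtCoh.bc j).obj U) v 0 = 0 from map_zero _]
    let u₀ := v.proj j ζ
    have hv : u₀.lift j ζ = v := Fib.lift_proj j ζ v
    rw [← hv]
    refine ((ConcreteCategory.congr_hom (germ_stalkPull j ζ AddCommGrpCat.{u + 1} G U u₀) s).symm.trans ?_)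
    have hn : u₀.pt ∉ S := fun hmem => by
      refine (ζ.base default).2 (?_ : j.base (ζ.base default) ∈ closure (p.base '' S))
      refine subset_closure ⟨u₀.pt, hmem, ?_⟩
      exact congrArg (fun r : Spec (CommRingCat.of Ω') ⟶ X => r.base default) u₀.w
    show (stalkPull j ζ AddCommGrpCat.{u + 1}).hom.app G (germ (A := AddCommGrpCat.{u + 1}) (ζ ≫ j) G U u₀ s) = 0
    rw [germ_eq_zero_of_notMem G s u₀ hn, map_zero]
  let Sq : ShortComplex (EtCoh.Ab X) := ShortComplex.mk (kernel.ι un) un (kernel.condition un)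
  have hSq : Sq.Exact := ShortComplex.exact_of_f_is_kernel _ (kernelIsKernel un)
  have hSq' := hSq.map (stk (A := AddCommGrpCat.{u + 1}) ξ)
  rw [ShortComplex.ab_exact_iff] at hSq'
  obtain ⟨Q, hQ⟩ := hSq' (germ (A := AddCommGrpCat.{u + 1}) ξ G U u s) (by
    show (stk (A := AddCommGrpCat.{u + 1}) ξ).map un (germ (A := AddCommGrpCat.{u + 1}) ξ G U u s) = 0
    refine (germ_natural_apply (A := AddCommGrpCat.{u + 1}) ξ un U u s).trans ?_
    rw [hs]
    exact map_zero _)
  exact ⟨T, Q, hQ.trans (germ_res_apply _ _ _ _ _)⟩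

theorem isColimit (G : EtCoh.Ab X) (h0 : ZeroAtMax G) : Nonempty (IsColimit (cocone G)) := by
  refine ⟨(colimit.isColimit (diag G)).ofPointIso (t := cocone G) (i := ?_)⟩
  refine isIso_of_stalks (A := AddCommGrpCat.{u + 1}) _ fun Ω _ _ ξ => ?_
  let S := stk (A := AddCommGrpCat.{u + 1}) ξ
  let d := (colimit.isColimit (diag G)).desc (cocone G)
  have hd : ∀ T (Q : ToType (S.obj ((diag G).obj T))),
      S.map d (S.map (colimit.ι (diag G) T) Q) = S.map ((cocone G).ι.app T) Q := fun T Q => by
    show (S.map (colimit.ι (diag G) T) ≫ S.map d) Q = _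
    rw [← Functor.map_comp]
    exact congrArg (fun t => S.map t Q) ((colimit.isColimit (diag G)).fac _ _)
  refine (ConcreteCategory.isIso_iff_bijective _).2 ⟨?_, fun P => ?_⟩
  · rw [injective_iff_map_eq_zero]
    intro P hP
    obtain ⟨T, Q, rfl⟩ := Concrete.isColimit_exists_rep _ (isColimitOfPreserves S (colimit.isColimit (diag G))) P
    have hQ : S.map ((cocone G).ι.app T) Q = 0 := (hd T Q).symm.trans hP
    haveI : Mono ((cocone G).ι.app T) := inferInstanceAs (Mono (kernel.ι _))
    have h1 : Q = 0 := (AddCommGrpCat.mono_iff_injective (S.map ((cocone G).ι.app T))).1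
      ((mono_iff_stalks (A := AddCommGrpCat.{u + 1}) _).1 inferInstance Ω ξ) (hQ.trans (map_zero _).symm)
    subst h1
    exact map_zero _
  · obtain ⟨T, Q, hQ⟩ := exists_lift_stalk G h0 ξ P
    exact ⟨_, (hd T Q).trans hQ⟩

/-- Vanishing above `n` in dimension at most `n`. -/
def Van (n : ℕ) : Prop :=
  ∀ (Z : Scheme.{u}), IsNoetherian Z → topologicalKrullDim Z ≤ n →
    ∀ F : EtCoh.Ab Z, Div F → ∀ q : ℕ, n < q → Subsingleton (EtCoh.H Z F q)

theorem small (n : ℕ) (hX : topologicalKrullDim X ≤ n) (ih : ∀ m, m < n → Van.{u} m) (G : EtCoh.Ab X) (hG : Div G)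
    (h0 : ZeroAtMax G) (q : ℕ) (hq : n ≤ q) : Subsingleton (EtCoh.H X G q) := by
  rcases n with _ | m
  · refine EtBcBridgeLib.subsingleton_H_of_isZero ?_ q
    exact CdCharPLib.isZero_of_stk fun Ω _ _ ξ => h0 Ω ξ (isMax_of_dim_le_zero hX _)
  refine subsingleton_of_forall_eq 0 fun x => ?_
  haveI := CovDevLib.preservesColimits_H (S := X) q (Small X)
  obtain ⟨hc⟩ := isColimit G h0
  obtain ⟨T, z, hz⟩ := CovDevLib.exists_rep_of_colimit (𝟭 (EtCoh.Ab X))
    (Abelian.extFunctorObj.{u + 1} (EtCoh.const X ℤ) q) hc x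
  have hz' : Ext.comp (z : Ext.{u + 1} _ _ q) (Ext.mk₀ ((cocone G).ι.app T)) (add_zero q) = x := hz
  let C : Closeds X := T.down.1
  let I := Scheme.IdealSheafData.vanishingIdeal (X := X) C
  let i : I.subscheme ⟶ X := I.subschemeι
  have hr : Set.range i.base = (C : Set X) := I.range_subschemeι.trans
    (Scheme.IdealSheafData.coe_support_vanishingIdeal (X := X) C)
  haveI : IsLocallyNoetherian I.subscheme := LocallyOfFiniteType.isLocallyNoetherian i
  haveI : CompactSpace I.subscheme := QuasiCompact.compactSpace_of_compactSpace i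
  haveI : IsNoetherian I.subscheme := { }
  have hd' : topologicalKrullDim I.subscheme ≤ m :=
    ((i.isEmbedding.toHomeomorph.trans (Homeomorph.setCongr hr)).isHomeomorph.topologicalKrullDim_eq).trans_le
      (dim_le_of_no_max hX C.isClosed T.down.2)
  haveI : (EtCoh.pull i).Additive := (EtCoh.pullPushAdj i).left_adjoint_additive
  let A := gammaT G C
  haveI := ih m (Nat.lt_succ_self m) I.subscheme inferInstance hd' ((EtCoh.pull i).obj A)
    ((div_gammaT hG C).map (EtCoh.pull i)) q (by omega)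
  haveI : IsIso ((EtCoh.pullPushAdj i).unit.app A) := by
    refine unit_isIso_of_vanish i A fun U hU => ?_
    refine ⟨fun a b => eq_of_germ (A := AddCommGrpCat.{u + 1}) A a b fun Ω _ _ ξ w => ?_⟩
    refine @Subsingleton.elim _ (AddCommGrpCat.subsingleton_of_isZero (isZero_stalk_gammaT G C ξ ?_)) _ _
    intro hmem
    refine hU ⟨w.pt, ?_⟩ (hr.ge hmem)
    show U.hom.base (w.hom.base default) = ξ.base default
    exact congrArg (fun t : Spec (CommRingCat.of Ω) ⟶ X => t.base default) w.w
  haveI : Subsingleton (EtCoh.H X ((EtCoh.pull i ⋙ EtCoh.push i).obj A) q) :=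
    CdCharPLib.subsingleton_push_H i _ q inferInstance
  have h2 : Subsingleton (EtCoh.H X A q) :=
    (EtAcycLib.bijective_mk₀_iso_postcomp (asIso ((EtCoh.pullPushAdj i).unit.app A)) q).1.subsingleton
  rw [← hz', h2.elim z 0]
  exact Ext.zero_comp _ _ _ _ _

theorem van : ∀ n, Van.{u} n := by
  intro n
  induction n using Nat.strong_induction_on with
  | _ n ih =>
  intro Z hN hZ F hF q hq
  haveI := hN
  classical
  obtain ⟨q', rfl⟩ : ∃ q', q = q' + 1 := ⟨q - 1, by omega⟩
  have hKP : ∀ x : MPt Z, Div (KP F x.1) := fun x => by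
    haveI : (EtCoh.push (Z.fromSpecResidueField x.1)).Additive := { }
    haveI : (EtCoh.pull (Z.fromSpecResidueField x.1)).Additive :=
      (EtCoh.pullPushAdj (Z.fromSpecResidueField x.1)).left_adjoint_additive
    exact (hF.map (EtCoh.pull (Z.fromSpecResidueField x.1))).map (EtCoh.push (Z.fromSpecResidueField x.1))
  refine subsingleton_of_map (uMax Z F) q'
    (small n hZ ih _ (hF.kernel _ (Div.biproduct _ hKP)) (fun Ω _ _ ξ h => ?_) (q' + 1) (by omega))
    (small n hZ ih _ (hF.cokernel _ (Div.biproduct _ hKP)) (fun Ω _ _ ξ h => ?_) q' (by omega))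
    (subsingleton_H_biproduct _ _ fun x => ?_)
  · exact (isZero_stk_kernel_cokernel (uMax Z F) ξ (isIso_stk_uMax Z F ξ h)).1
  · exact (isZero_stk_kernel_cokernel (uMax Z F) ξ (isIso_stk_uMax Z F ξ h)).2
  · haveI : (EtCoh.pull (Z.fromSpecResidueField x.1)).Additive :=
      (EtCoh.pullPushAdj (Z.fromSpecResidueField x.1)).left_adjoint_additive
    exact subsingleton_H_push x.1 _ (hF.map (EtCoh.pull (Z.fromSpecResidueField x.1))) (q' + 1) (by omega)

end EtCdDivLib
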