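import Groth.Agent.WEtReducedLib.Basic

/-!
# Fibres of a weakly etale algebra over the generic point of a prime
-/

set_option autoImplicit false
set_option linter.all false

universe u

open TensorProduct

namespace EtCdPhiLib

variable {A K R : Type u} [CommRing A] [Field K] [CommRing R] [Algebra A K] [Algebra A R]

theorem exists_mul_eq (hfrac : ∀ c : K, ∃ a b : A, algebraMap A K b ≠ 0 ∧ c * algebraMap A K b = algebraMap A K a)
    (t : K ⊗[A] R) : ∃ (r : R) (b : A), algebraMap A K b ≠ 0 ∧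
      t * (1 : K) ⊗ₜ[A] algebraMap A R b = (1 : K) ⊗ₜ[A] r := by
  induction t using TensorProduct.induction_on with
  | zero => exact ⟨0, 1, by simp, by simp⟩
  | tmul c r =>
    obtain ⟨a, b, hb, h⟩ := hfrac c
    refine ⟨algebraMap A R a * r, b, hb, ?_⟩
    rw [Algebra.TensorProduct.tmul_mul_tmul, mul_one, ← Algebra.smul_def a r, tmul_smul, smul_tmul', mul_comm r,
      ← Algebra.smul_def b r, tmul_smul, smul_tmul', Algebra.smul_def, Algebra.smul_def, mul_one, mul_comm, h]
  | add x y hx hy =>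
    obtain ⟨r, b, hb, h⟩ := hx
    obtain ⟨r', b', hb', h'⟩ := hy
    refine ⟨algebraMap A R b' * r + algebraMap A R b * r', b * b', by rw [map_mul]; exact mul_ne_zero hb hb', ?_⟩
    rw [tmul_add, map_mul, add_mul,
      show (1 : K) ⊗ₜ[A] (algebraMap A R b * algebraMap A R b') =
        (1 : K) ⊗ₜ[A] algebraMap A R b * (1 : K) ⊗ₜ[A] algebraMap A R b' by
        rw [Algebra.TensorProduct.tmul_mul_tmul, mul_one],
      show (1 : K) ⊗ₜ[A] (algebraMap A R b' * r) = (1 : K) ⊗ₜ[A] algebraMap A R b' * (1 : K) ⊗ₜ[A] r by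
        rw [Algebra.TensorProduct.tmul_mul_tmul, mul_one],
      show (1 : K) ⊗ₜ[A] (algebraMap A R b * r') = (1 : K) ⊗ₜ[A] algebraMap A R b * (1 : K) ⊗ₜ[A] r' by
        rw [Algebra.TensorProduct.tmul_mul_tmul, mul_one], ← h, ← h']
    ring

theorem isUnit_tmul {b : A} (hb : algebraMap A K b ≠ 0) : IsUnit ((1 : K) ⊗ₜ[A] algebraMap A R b) := by
  refine isUnit_iff_exists_inv.2 ⟨(algebraMap A K b)⁻¹ ⊗ₜ[A] (1 : R), ?_⟩
  rw [Algebra.TensorProduct.tmul_mul_tmul, one_mul, mul_one, Algebra.algebraMap_eq_smul_one (A := R), tmul_smul, smul_tmul',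
    Algebra.smul_def, mul_inv_cancel₀ hb]
  rfl

theorem isNoetherianRing_fibre [IsNoetherianRing R]
    (hfrac : ∀ c : K, ∃ a b : A, algebraMap A K b ≠ 0 ∧ c * algebraMap A K b = algebraMap A K a) :
    IsNoetherianRing (K ⊗[A] R) := by
  refine (isNoetherianRing_iff_ideal_fg _).2 fun I => ?_
  let φ : R →+* K ⊗[A] R := Algebra.TensorProduct.includeRight.toRingHom
  have e : (I.comap φ).map φ = I := by
    refine le_antisymm Ideal.map_comap_le fun t ht => ?_
    obtain ⟨r, b, hb, h⟩ := exists_mul_eq hfrac t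
    obtain ⟨u, hu⟩ := isUnit_tmul (R := R) hb
    refine (Ideal.mul_unit_mem_iff_mem _ u.isUnit).1 (?_ : t * (u : K ⊗[A] R) ∈ _)
    rw [hu, h]
    exact Ideal.mem_map_of_mem φ (show (1 : K) ⊗ₜ[A] r ∈ I by rw [← h]; exact I.mul_mem_right _ ht)
  exact e ▸ Ideal.FG.map (IsNoetherian.noetherian (I.comap φ)) φ

variable [Algebra.WeaklyEtale A R]

theorem isMaximal_fibre (q : Ideal (K ⊗[A] R)) [hq : q.IsPrime] : q.IsMaximal := by
  refine Ideal.isMaximal_iff.2 ⟨fun h1 => hq.ne_top ((Ideal.eq_top_iff_one q).2 h1), fun J a hJ ha haJ => ?_⟩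
  obtain ⟨x, hx⟩ := Groth.Agent.WEtReducedLib.forall_dvd_of_weaklyEtale (A := K) (B := K ⊗[A] R)
    (fun c => ⟨c⁻¹, by rcases eq_or_ne c 0 with h | h <;> simp [h]⟩) a
  have h1 : a * (1 - a * x) ∈ q := by
    rw [show a * (1 - a * x) = a - a * a * x by ring, ← hx, sub_self]
    exact q.zero_mem
  have h2 := hJ ((hq.mem_or_mem h1).resolve_left ha)
  simpa using J.add_mem h2 (J.mul_mem_right x haJ)

/-- Field-valued points of the fibre. -/
theorem exists_point {F : Type u} [Field F]
    (hfrac : ∀ c : K, ∃ a b : A, algebraMap A K b ≠ 0 ∧ c * algebraMap A K b = algebraMap A K a)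
    (g : R →+* F) (hk : ∀ a, algebraMap A K a = 0 → g (algebraMap A R a) = 0)
    (hu : ∀ b, algebraMap A K b ≠ 0 → g (algebraMap A R b) ≠ 0) :
    ∃ Φ : K ⊗[A] R →+* F, ∀ r : R, Φ ((1 : K) ⊗ₜ[A] r) = g r := by
  let G : A →+* F := g.comp (algebraMap A R)
  letI : Algebra A F := G.toAlgebra
  choose num den hden hnd using hfrac
  have hden' : ∀ c, G (den c) ≠ 0 := fun c => hu _ (hden c)
  have hG : ∀ c a b, algebraMap A K b ≠ 0 → c * algebraMap A K b = algebraMap A K a →
      G (num c) / G (den c) = G a / G b := fun c a b hb h => by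
    have hb' : G b ≠ 0 := hu _ hb
    rw [div_eq_div_iff (hden' c) hb', ← map_mul, ← map_mul, ← sub_eq_zero, ← map_sub]
    refine hk _ ?_
    rw [map_sub, map_mul, map_mul, ← hnd c, ← h]
    ring
  let ψ : K →ₐ[A] F :=
    { toFun := fun c => G (num c) / G (den c)
      map_one' := (hG 1 1 1 (by simp) (by simp)).trans (by simp)
      map_mul' := fun c d => by
        rw [hG (c * d) (num c * num d) (den c * den d) (by rw [map_mul]; exact mul_ne_zero (hden c) (hden d))
          (by rw [map_mul, map_mul, ← hnd c, ← hnd d]; ring), map_mul, map_mul, mul_div_mul_comm]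
      map_zero' := (hG 0 0 1 (by simp) (by simp)).trans (by simp)
      map_add' := fun c d => by
        rw [hG (c + d) (num c * den d + num d * den c) (den c * den d)
          (by rw [map_mul]; exact mul_ne_zero (hden c) (hden d))
          (by rw [map_add, map_mul, map_mul, map_mul, ← hnd c, ← hnd d]; ring), map_add, map_mul, map_mul, map_mul,
          div_add_div _ _ (hden' c) (hden' d)]
        ring
      commutes' := fun a => (hG (algebraMap A K a) a 1 (by simp) (by simp)).trans (by rw [map_one, div_one]; rfl) }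
  let g' : R →ₐ[A] F := { g with commutes' := fun a => rfl }
  refine ⟨(Algebra.TensorProduct.lift ψ g' fun _ _ => Commute.all _ _).toRingHom, fun r => ?_⟩
  show Algebra.TensorProduct.lift ψ g' (fun _ _ => Commute.all _ _) ((1 : K) ⊗ₜ[A] r) = g r
  rw [Algebra.TensorProduct.lift_tmul, map_one, one_mul]
  rfl

/-- The prime of `R` under a prime of the fibre is minimal over the extension of the kernel. -/
theorem comap_mem_minimalPrimes
    (hfrac : ∀ c : K, ∃ a b : A, algebraMap A K b ≠ 0 ∧ c * algebraMap A K b = algebraMap A K a)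
    (q : Ideal (K ⊗[A] R)) [q.IsPrime] :
    q.comap Algebra.TensorProduct.includeRight.toRingHom ∈
      ((RingHom.ker (algebraMap A K)).map (algebraMap A R)).minimalPrimes := by
  let φ : R →+* K ⊗[A] R := Algebra.TensorProduct.includeRight.toRingHom
  have hφ : ∀ a, φ (algebraMap A R a) = algebraMap A K a ⊗ₜ[A] (1 : R) := fun a => by
    show (1 : K) ⊗ₜ[A] algebraMap A R a = _
    rw [Algebra.algebraMap_eq_smul_one, tmul_smul, smul_tmul', ← Algebra.algebraMap_eq_smul_one]
  have hle : (RingHom.ker (algebraMap A K)).map (algebraMap A R) ≤ q.comap φ := by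
    refine Ideal.map_le_iff_le_comap.2 fun a ha => ?_
    show φ (algebraMap A R a) ∈ q
    rw [hφ, RingHom.mem_ker.1 ha, zero_tmul]
    exact q.zero_mem
  refine ⟨⟨Ideal.IsPrime.comap φ, hle⟩, fun P ⟨hP, hPle⟩ hPq => ?_⟩
  have hnot : ∀ b : A, algebraMap A K b ≠ 0 → algebraMap A R b ∉ P := fun b hb h =>
    Ideal.IsPrime.ne_top' (I := q) (Ideal.eq_top_of_isUnit_mem _ (hPq h) (isUnit_tmul (R := R) hb))
  let F := FractionRing (R ⧸ P)
  let g : R →+* F := (algebraMap (R ⧸ P) F).comp (Ideal.Quotient.mk P)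
  have hg : RingHom.ker g = P := by
    ext r
    rw [RingHom.mem_ker, RingHom.comp_apply, map_eq_zero_iff _ (IsFractionRing.injective (R ⧸ P) F),
      Ideal.Quotient.eq_zero_iff_mem]
  obtain ⟨Φ, hΦ⟩ := exists_point hfrac g
    (fun a ha => RingHom.mem_ker.1 (hg.ge (hPle (Ideal.mem_map_of_mem _ ha))))
    (fun b hb h => hnot _ hb (hg.le (RingHom.mem_ker.2 h)))
  haveI : (RingHom.ker Φ).IsPrime := RingHom.ker_isPrime _
  have hker : RingHom.ker Φ ≤ q := fun t ht => by
    obtain ⟨r, b, hb, h⟩ := exists_mul_eq hfrac t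
    have hr : r ∈ P := hg.le (by
      rw [RingHom.mem_ker, ← hΦ]
      show Φ ((1 : K) ⊗ₜ[A] r) = 0
      rw [← h, map_mul, show Φ t = 0 from ht, zero_mul])
    obtain ⟨u, hu⟩ := isUnit_tmul (R := R) hb
    refine (Ideal.mul_unit_mem_iff_mem _ u.isUnit).1 (?_ : t * (u : K ⊗[A] R) ∈ q)
    rw [hu, h]
    exact hPq hr
  have he := (isMaximal_fibre (RingHom.ker Φ)).eq_of_le (Ideal.IsPrime.ne_top inferInstance) hker
  intro r hr
  refine hg.le ?_
  rw [RingHom.mem_ker, ← hΦ]
  exact he.ge hr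

/-- The residue fields of the fibre are the fraction fields of the corresponding quotients. -/
theorem nonempty_residueField_equiv
    (hfrac : ∀ c : K, ∃ a b : A, algebraMap A K b ≠ 0 ∧ c * algebraMap A K b = algebraMap A K a)
    (q : Ideal (K ⊗[A] R)) [q.IsPrime] :
    Nonempty (FractionRing (R ⧸ q.comap Algebra.TensorProduct.includeRight.toRingHom) ≃+* q.ResidueField) := by
  let φ : R →+* K ⊗[A] R := Algebra.TensorProduct.includeRight.toRingHom
  haveI : (q.comap φ).IsPrime := Ideal.IsPrime.comap φ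
  haveI := isMaximal_fibre q
  let ρ : R ⧸ q.comap φ →+* q.ResidueField := Ideal.Quotient.lift _ ((algebraMap _ q.ResidueField).comp φ)
    fun r hr => Ideal.algebraMap_residueField_eq_zero.2 hr
  have hρ : Function.Injective ρ := by
    rw [injective_iff_map_eq_zero]
    intro x hx
    obtain ⟨r, rfl⟩ := Ideal.Quotient.mk_surjective x
    rw [Ideal.Quotient.lift_mk] at hx
    exact (Ideal.Quotient.eq_zero_iff_mem (I := q.comap φ)).2 ((Ideal.algebraMap_residueField_eq_zero (I := q) (x := φ r)).1 hx)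
  let L : FractionRing (R ⧸ q.comap φ) →+* q.ResidueField := IsFractionRing.lift hρ
  refine ⟨RingEquiv.ofBijective L ⟨L.injective, fun z => ?_⟩⟩
  obtain ⟨t, rfl⟩ := Ideal.algebraMap_residueField_surjective q z
  obtain ⟨r, b, hb, h⟩ := exists_mul_eq hfrac t
  have hb0 : algebraMap _ q.ResidueField ((1 : K) ⊗ₜ[A] algebraMap A R b) ≠ 0 :=
    ((isUnit_tmul (R := R) hb).map _).ne_zero
  refine ⟨algebraMap (R ⧸ q.comap φ) _ (Ideal.Quotient.mk (q.comap φ) r) /
    algebraMap (R ⧸ q.comap φ) _ (Ideal.Quotient.mk (q.comap φ) (algebraMap A R b)), ?_⟩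
  rw [map_div₀, IsFractionRing.lift_algebraMap, IsFractionRing.lift_algebraMap]
  show algebraMap _ q.ResidueField (φ r) / algebraMap _ q.ResidueField (φ (algebraMap A R b)) = _
  rw [show φ r = t * φ (algebraMap A R b) from h.symm, map_mul, mul_div_assoc]
  exact mul_right_eq_self₀.2 (Or.inl (div_self hb0))

end EtCdPhiLib
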