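import Groth.Agent.EtCdPhiLib.Fibre
import Groth.Agent.CycDivLib.Ord
import Groth.Agent.S0540
import Groth.Agent.EtPBCProperLib.Compose
import Groth.Agent.PTorsCdLib.Point
import Groth.Agent.EtRpushStalkLib.Iso
import Groth.Prelude.Def_Dix

/-!
# Stalks of higher direct images from a point
-/

set_option autoImplicit false
set_option linter.all false
set_option backward.isDefEq.respectTransparency false
set_option backward.isDefEq.respectTransparency.types false
set_option synthInstance.maxHeartbeats 400000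
set_option maxHeartbeats 1000000

universe u

open CategoryTheory CategoryTheory.Limits CategoryTheory.Abelian AlgebraicGeometry Opposite TensorProduct
open Groth.Agent Groth.Agent.EtShLib EtPBCProperLib SkySumLib

attribute [local instance] EtSliceLib.pullExact

noncomputable section

namespace EtCdPhiLib

theorem additive_pull {X Y : Scheme.{u}} (f : X ⟶ Y) : (EtCoh.pull f).Additive :=
  (EtCoh.pullPushAdj f).left_adjoint_additive

/-- Cohomology of a Noetherian scheme all of whose points are maximal. -/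
theorem subsingleton_H_zero_dim {T : Scheme.{u}} [IsNoetherian T] (hmax : ∀ z : T, DivSeqLib.IsMaxPt z)
    (F : EtCoh.Ab T) {l : ℕ} (hF : l • 𝟙 F = 0) (d : ℕ)
    (hK : ∀ (z : T) (G : EtCoh.Ab (Spec (T.residueField z))), l • 𝟙 G = 0 → ∀ q : ℕ, d < q →
      Subsingleton (EtCoh.H (Spec (T.residueField z)) G q)) (q : ℕ) (hq : d < q) :
    Subsingleton (EtCoh.H T F q) := by
  classical
  haveI : IsIso (uMax T F) := isIso_of_stalks (A := AddCommGrpCat.{u + 1}) _ fun Ω _ _ ξ =>
    isIso_stk_uMax T F ξ (hmax _)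
  haveI : Subsingleton (EtCoh.H T (⨁ fun x : MPt T => KP F x.1) q) :=
    PTorsCdLib.subsingleton_H_biproduct _ _ fun x => by
      let i := T.fromSpecResidueField x.1
      haveI : IsClosedImmersion i := by
        refine isClosed_singleton_iff_isClosedImmersion.1 ?_
        refine isClosed_of_closure_subset fun y hy => ?_
        exact (hmax y x.1 (specializes_iff_mem_closure.2 hy)).symm
      haveI := additive_pull i
      haveI := hK x.1 ((EtCoh.pull i).obj F) (CdPrimeLib.nsmul_id_map (EtCoh.pull i) hF) q hq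
      exact (Groth.Agent.S14451.result i ((EtCoh.pull i).obj F)
        (fun j hj => isZero_rightDerived_push_finite i _ j hj) q).1.subsingleton
  refine subsingleton_of_forall_eq 0 fun z => ?_
  rw [← Ext.comp_mk₀_id z, ← IsIso.hom_inv_id (uMax T F), ← Ext.mk₀_comp_mk₀, ← Ext.comp_assoc_of_second_deg_zero,
    Subsingleton.elim (α := EtCoh.H T (⨁ fun x : MPt T => KP F x.1) q) (z.comp (Ext.mk₀ (uMax T F)) (add_zero q)) 0,
    Ext.zero_comp]

theorem cohDimLEAt_of_isIso {A B : Scheme.{u}} (e : A ⟶ B) [IsIso e] {l d : ℕ} (h : Dix.CohDimLEAt B l d)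
    (F : EtCoh.Ab A) (hF : l • 𝟙 F = 0) (q : ℕ) (hq : d < q) : Subsingleton (EtCoh.H A F q) := by
  haveI : (EtCoh.push e).Additive := { }
  haveI := h ((EtCoh.push e).obj F) (EtKummerLib.isPrimaryTorsion_of_nsmul_id l 1 (by
    rw [pow_one]; exact CdPrimeLib.nsmul_id_map (EtCoh.push e) hF)) q hq
  exact (Groth.Agent.S14451.result e F (fun j hj => isZero_rightDerived_push_finite e _ j hj) q).2.subsingleton

theorem isPullback_comp_mono {C : Type*} [Category C] {P A B Z W : C} {p : P ⟶ A} {q : P ⟶ B} {f : A ⟶ Z} {g : B ⟶ Z}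
    (h : IsPullback p q f g) (m : Z ⟶ W) [Mono m] : IsPullback p q (f ≫ m) (g ≫ m) :=
  IsPullback.of_isLimit' ⟨by rw [← Category.assoc, ← Category.assoc, h.w]⟩
    (PullbackCone.IsLimit.mk _
      (fun s => h.lift s.fst s.snd ((cancel_mono m).1 (by simpa only [Category.assoc] using s.condition)))
      (fun s => h.lift_fst _ _ _) (fun s => h.lift_snd _ _ _)
      (fun s t h1 h2 => h.hom_ext (h1.trans (h.lift_fst _ _ _).symm) (h2.trans (h.lift_snd _ _ _).symm)))

variable {X : Scheme.{u}} [IsNoetherian X]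

/-- The stalks of the higher direct images from a point. -/
theorem subsingleton_stalk_Rpush_point (x y : X) (R : Type u) [CommRing R] [IsLocalRing R]
    [Algebra (X.presheaf.stalk y) R] [IsLocalHom (algebraMap (X.presheaf.stalk y) R)]
    [Hensel.IsStrictHenselization (X.presheaf.stalk y) R] [HenselianLocalRing R] [IsSepClosed (IsLocalRing.ResidueField R)]
    (G : EtCoh.Ab (Spec (X.residueField x))) {l : ℕ} (hG : l • 𝟙 G = 0) (p : ℕ)
    (hd : ∀ h : x ⤳ y, ∀ P ∈ ((RingHom.ker (Cyc.specMap y x h)).map (algebraMap (X.presheaf.stalk y) R)).minimalPrimes,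
      ∃ d : ℕ, d < p ∧ Dix.CohDimLEAt (Spec (CommRingCat.of (FractionRing (R ⧸ P)))) l d) :
    Subsingleton ((stk (A := AddCommGrpCat.{u + 1}) (closedPt R ≫ Hens2.specOf X y R)).obj
      ((EtCoh.Rpush (X.fromSpecResidueField x) p).obj G)) := by
  let i := X.fromSpecResidueField x
  haveI : QuasiCompact i := quasiCompact_of_compactSpace _
  obtain ⟨C⟩ := EtRpushStalkLib.exists_chart y R
  obtain ⟨e⟩ := EtRpushStalkLib.nonempty_iso i (IsPullback.of_hasPullback i (Hens2.specOf X y R)) C p
  refine (e.app G).addCommGroupIsoToAddEquiv.toEquiv.subsingleton_congr.2 ?_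
  let a := pullback.fst i (Hens2.specOf X y R)
  let W := pullback i (Hens2.specOf X y R)
  show Subsingleton (EtCoh.H W ((EtCoh.pull a).obj G) p)
  rcases isEmpty_or_nonempty W with hW | ⟨⟨w⟩⟩
  · refine EtBcBridgeLib.subsingleton_H_of_isZero ?_ p
    rw [IsZero.iff_id_eq_zero]
    haveI : IsIso (0 : (EtCoh.pull a).obj G ⟶ (EtCoh.pull a).obj G) :=
      isIso_of_stalks (A := AddCommGrpCat.{u + 1}) _ fun Ω _ _ ξ => hW.elim (ξ.base default)
    rw [← cancel_mono (0 : (EtCoh.pull a).obj G ⟶ (EtCoh.pull a).obj G)]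
    simp
  have hxy : x ⤳ y := by
    have h1 : i.base (a.base w) = x := X.fromSpecResidueField_apply x _
    have h2 : i.base (a.base w) ∈ Set.range (X.fromSpecStalk y).base := by
      refine ⟨(Spec.map (CommRingCat.ofHom (algebraMap (X.presheaf.stalk y) R))).base
        ((pullback.snd i (Hens2.specOf X y R)).base w), ?_⟩
      exact (congrArg (fun t => t.base w) (pullback.condition (f := i) (g := Hens2.specOf X y R))).symm
    rw [h1, Scheme.range_fromSpecStalk] at h2
    exact h2
  let K : Type u := X.residueField x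
  letI : Field K := inferInstanceAs (Field (X.residueField x))
  letI : Algebra (X.presheaf.stalk y) K := (Cyc.specMap y x hxy).toAlgebra
  haveI : Algebra.WeaklyEtale (X.presheaf.stalk y) R :=
    Groth.Agent.S0736.result _ R (Groth.Agent.S12237.result (X.presheaf.stalk y) R)
  haveI : IsNoetherianRing R := (Groth.Agent.S0540.result (X.presheaf.stalk y) R).1 inferInstance
  have hfrac : ∀ c : K, ∃ a b : X.presheaf.stalk y, algebraMap _ K b ≠ 0 ∧
      c * algebraMap _ K b = algebraMap _ K a := fun c => by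
    obtain ⟨a, b, hb, rfl⟩ := CycDivLib.exists_div hxy c
    exact ⟨a, b, hb, div_mul_cancel₀ _ hb⟩
  let T := K ⊗[X.presheaf.stalk y] R
  haveI : IsNoetherianRing T := isNoetherianRing_fibre hfrac
  have hp := isPullback_SpecMap_of_isPushout _ _ _ _
    (CommRingCat.isPushout_tensorProduct (X.presheaf.stalk y) K R)
  have hi : Spec.map (CommRingCat.ofHom (Cyc.specMap y x hxy)) ≫ X.fromSpecStalk y = i := by
    show Spec.map (X.presheaf.stalkSpecializes hxy ≫ X.residue x) ≫ X.fromSpecStalk y = _
    rw [Spec.map_comp, Category.assoc, Scheme.SpecMap_stalkSpecializes_fromSpecStalk]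
    rfl
  have hpX : IsPullback (Spec.map (CommRingCat.ofHom (Algebra.TensorProduct.includeLeftRingHom (R := X.presheaf.stalk y) (A := K) (B := R))))
      (Spec.map (CommRingCat.ofHom (Algebra.TensorProduct.includeRight (R := X.presheaf.stalk y) (A := K) (B := R)).toRingHom))
      i (Hens2.specOf X y R) := by
    rw [← hi]
    exact isPullback_comp_mono hp (X.fromSpecStalk y)
  let ε := hpX.isoPullback
  have hεF : l • 𝟙 ((EtCoh.pull a).obj G) = 0 := by
    haveI := additive_pull a
    exact CdPrimeLib.nsmul_id_map (EtCoh.pull a) hG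
  haveI : IsNoetherian W :=
    { component_noetherian := (isLocallyNoetherian_of_isOpenImmersion ε.inv).component_noetherian
      isCompact_univ := ε.inv.homeomorph.symm.compactSpace.isCompact_univ }
  rcases Nat.eq_zero_or_pos p with rfl | hp0
  · obtain ⟨d, hd0, -⟩ := hd hxy _ (comap_mem_minimalPrimes hfrac (ε.inv.base w).asIdeal)
    exact absurd hd0 (Nat.not_lt_zero d)
  obtain ⟨d, rfl⟩ : ∃ d, p = d + 1 := ⟨p - 1, by omega⟩
  refine subsingleton_H_zero_dim (fun z v hv => ?_) _ hεF d (fun z F hF q hq => ?_) (d + 1) (by omega)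
  · have h2 : ε.inv.base v ⤳ ε.inv.base z := hv.map ε.inv.continuous
    have h3 : (ε.inv.base v).asIdeal ≤ (ε.inv.base z).asIdeal := (PrimeSpectrum.le_iff_specializes _ _).2 h2
    exact ε.inv.isEmbedding.injective (PrimeSpectrum.ext ((isMaximal_fibre _).eq_of_le (ε.inv.base z).2.ne_top h3))
  · let w' := ε.inv.base z
    obtain ⟨d', hd', hcd⟩ := hd hxy _ (comap_mem_minimalPrimes hfrac w'.asIdeal)
    obtain ⟨φ⟩ := nonempty_residueField_equiv hfrac w'.asIdeal
    let e₁ : Spec (W.residueField z) ≅ Spec (CommRingCat.of (FractionRing (R ⧸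
        w'.asIdeal.comap (Algebra.TensorProduct.includeRight (R := X.presheaf.stalk y) (A := K) (B := R)).toRingHom))) :=
      Scheme.Spec.mapIso ((φ.toCommRingCatIso ≪≫ (Scheme.Spec.residueFieldIso (CommRingCat.of T) w').symm ≪≫
        asIso (ε.inv.residueFieldMap z))).op
    exact cohDimLEAt_of_isIso e₁.hom hcd F hF q (by omega)

end EtCdPhiLib
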